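import Mathlib
import Cfsg.Agent.SigZeroU5.Lin

/-!
# Two commuting perfect groups in dimension three (helper196)

`no_two` : `V` of dimension three over an algebraically closed field, `G` and `H` perfect groups acting on `V`, the
actions commute: one of the actions is trivial.
-/

set_option autoImplicit false
set_option linter.unusedSectionVars false

namespace Cfsg.Agent.H196.EP

open Module Cfsg.Agent.SigZeroU5

theorem eq_one_of_comm_image {G M : Type*} [Group G] [Monoid M] (hG : ⁅(⊤ : Subgroup G), (⊤ : Subgroup G)⁆ = ⊤) (f : G →* M)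
    (hf : ∀ a b, f a * f b = f b * f a) (a : G) : f a = 1 := by
  have h1 : ⁅(⊤ : Subgroup G), (⊤ : Subgroup G)⁆ ≤ f.ker := by
    rw [Subgroup.commutator_le]
    intro x _ y _
    rw [MonoidHom.mem_ker, commutatorElement_def, map_mul, map_mul, map_mul, hf x y, mul_assoc (f y), ← map_mul f x,
      mul_inv_cancel, map_one, mul_one, ← map_mul, mul_inv_cancel, map_one]
  rw [hG] at h1
  exact h1 (Subgroup.mem_top a)

section

variable {K V G H : Type*} [Field K] [AddCommGroup V] [Module K V] [Group G] [Group H]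

theorem comm_of_finrank_le_one {W : Type*} [AddCommGroup W] [Module K W] [FiniteDimensional K W] (h : finrank K W ≤ 1)
    (f g : Module.End K W) : f * g = g * f := by
  obtain ⟨v, hv⟩ := finrank_le_one_iff.1 h
  obtain ⟨a, ha⟩ := hv (f v)
  obtain ⟨b, hb⟩ := hv (g v)
  ext w
  obtain ⟨c, rfl⟩ := hv w
  rw [Module.End.mul_apply, Module.End.mul_apply, map_smul, map_smul, map_smul, map_smul, ← ha, ← hb, map_smul, map_smul,
    ← ha, ← hb, smul_smul, smul_smul, smul_smul, smul_smul]
  congr 1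
  ring

theorem two_step (hG : ⁅(⊤ : Subgroup G), (⊤ : Subgroup G)⁆ = ⊤) (ρ : G →* Module.End K V) (U : Submodule K V)
    (h1 : ∀ g, ∀ u ∈ U, ρ g u = u) (h2 : ∀ g v, ρ g v - v ∈ U) (g : G) : ρ g = 1 := by
  apply eq_one_of_comm_image hG ρ
  intro a b
  ext v
  rw [Module.End.mul_apply, Module.End.mul_apply]
  have e1 : ρ a (ρ b v) = ρ a v + (ρ b v - v) := by
    conv_lhs => rw [← add_sub_cancel v (ρ b v), map_add, h1 a _ (h2 b v)]
  have e2 : ρ b (ρ a v) = ρ b v + (ρ a v - v) := by
    conv_lhs => rw [← add_sub_cancel v (ρ a v), map_add, h1 b _ (h2 a v)]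
  rw [e1, e2]
  abel

theorem line_triv [FiniteDimensional K V] (hG : ⁅(⊤ : Subgroup G), (⊤ : Subgroup G)⁆ = ⊤) (ρ : G →* Module.End K V) (U : Submodule K V)
    (hU : ∀ g, U ≤ U.comap (ρ g)) (h : finrank K U ≤ 1) (g : G) (u : V) (hu : u ∈ U) : ρ g u = u := by
  have h1 := eq_one_of_comm_image hG (restr ρ U hU) (fun a b => comm_of_finrank_le_one h _ _) g
  have h2 := congrArg (fun f : Module.End K U => ((f ⟨u, hu⟩ : U) : V)) h1
  simpa [restr_apply] using h2

theorem quot_triv [FiniteDimensional K V] (hG : ⁅(⊤ : Subgroup G), (⊤ : Subgroup G)⁆ = ⊤) (ρ : G →* Module.End K V) (U : Submodule K V)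
    (hU : ∀ g, U ≤ U.comap (ρ g)) (h : finrank K (V ⧸ U) ≤ 1) (g : G) (v : V) : ρ g v - v ∈ U := by
  have h1 := eq_one_of_comm_image hG (quot ρ U hU) (fun a b => comm_of_finrank_le_one h _ _) g
  have h2 := congrArg (fun f : Module.End K (V ⧸ U) => f (Submodule.Quotient.mk v)) h1
  simp only [quot_mk, Module.End.one_apply] at h2
  exact (Submodule.Quotient.eq U).1 h2

/-- the fixed points -/
def fixSub (ρ : G →* Module.End K V) : Submodule K V where
  carrier := {v | ∀ g, ρ g v = v}
  add_mem' := by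
    intro a b ha hb g
    rw [map_add, ha g, hb g]
  zero_mem' := fun g => map_zero _
  smul_mem' := by
    intro c x hx g
    rw [map_smul, hx g]

theorem mem_fixSub {ρ : G →* Module.End K V} {v : V} : v ∈ fixSub ρ ↔ ∀ g, ρ g v = v := Iff.rfl

theorem inv_ker {ρ : G →* Module.End K V} {a : Module.End K V} (ha : ∀ g, ρ g * a = a * ρ g) (c : K) (g : G) :
    LinearMap.ker (a - c • (1 : Module.End K V)) ≤ (LinearMap.ker (a - c • (1 : Module.End K V))).comap (ρ g) := by
  intro v hv
  rw [LinearMap.mem_ker, LinearMap.sub_apply, LinearMap.smul_apply, Module.End.one_apply, sub_eq_zero] at hv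
  rw [Submodule.mem_comap, LinearMap.mem_ker, LinearMap.sub_apply, LinearMap.smul_apply, Module.End.one_apply,
    ← Module.End.mul_apply, ← ha g, Module.End.mul_apply, hv, map_smul, sub_self]

theorem inv_range {ρ : G →* Module.End K V} {a : Module.End K V} (ha : ∀ g, ρ g * a = a * ρ g) (c : K) (g : G) :
    LinearMap.range (a - c • (1 : Module.End K V)) ≤ (LinearMap.range (a - c • (1 : Module.End K V))).comap (ρ g) := by
  rintro _ ⟨v, rfl⟩
  refine ⟨ρ g v, ?_⟩
  rw [LinearMap.sub_apply, LinearMap.smul_apply, Module.End.one_apply, LinearMap.sub_apply, LinearMap.smul_apply,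
    Module.End.one_apply, map_sub, map_smul, ← Module.End.mul_apply, ← ha g, Module.End.mul_apply]

/-- no invariant line in a plane with a nontrivial action of a perfect group -/
theorem triv_of_plane [FiniteDimensional K V] (hG : ⁅(⊤ : Subgroup G), (⊤ : Subgroup G)⁆ = ⊤) (ρ : G →* Module.End K V)
    (hV : finrank K V = 2) (U : Submodule K V) (hU : ∀ g, U ≤ U.comap (ρ g)) (h : finrank K U = 1) (g : G) :
    ρ g = 1 := by
  have h1 := Submodule.finrank_quotient_add_finrank U
  exact two_step hG ρ U (fun g u hu => line_triv hG ρ U hU h.le g u hu)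
    (fun g v => quot_triv hG ρ U hU (by omega) g v) g

theorem no_two [IsAlgClosed K] [FiniteDimensional K V] (hV : finrank K V = 3) (hG : ⁅(⊤ : Subgroup G), (⊤ : Subgroup G)⁆ = ⊤)
    (hH : ⁅(⊤ : Subgroup H), (⊤ : Subgroup H)⁆ = ⊤) (ρ : G →* Module.End K V) (τ : H →* Module.End K V)
    (hc : ∀ g h, ρ g * τ h = τ h * ρ g) : (∀ g, ρ g = 1) ∨ ∀ h, τ h = 1 := by
  by_contra hcon
  push Not at hcon
  obtain ⟨⟨g₀, hg₀⟩, ⟨h₁, hh₁⟩⟩ := hcon
  -- a non scalar element
  obtain ⟨h₀, hh₀⟩ : ∃ h, ∀ c : K, τ h ≠ c • (1 : Module.End K V) := by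
    by_contra hcon
    push Not at hcon
    apply hh₁
    apply eq_one_of_comm_image hH τ
    intro a b
    obtain ⟨c, hc⟩ := hcon a
    rw [hc, smul_mul_assoc, mul_smul_comm, one_mul, mul_one]
  have hnt : Nontrivial V := nontrivial_of_finrank_pos (R := K) (by rw [hV]; norm_num)
  obtain ⟨c, hcv⟩ := Module.End.exists_eigenvalue (τ h₀)
  have hk0 : LinearMap.ker (τ h₀ - c • (1 : Module.End K V)) ≠ ⊥ := by
    obtain ⟨v, hv⟩ := hcv.exists_hasEigenvector
    intro e
    apply hv.2
    have : v ∈ LinearMap.ker (τ h₀ - c • (1 : Module.End K V)) := by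
      rw [LinearMap.mem_ker, LinearMap.sub_apply, LinearMap.smul_apply, Module.End.one_apply, hv.apply_eq_smul, sub_self]
    rwa [e, Submodule.mem_bot] at this
  have hr0 : LinearMap.range (τ h₀ - c • (1 : Module.End K V)) ≠ ⊥ := by
    intro e
    rw [LinearMap.range_eq_bot, sub_eq_zero] at e
    exact hh₀ c e
  have hsum := LinearMap.finrank_range_add_finrank_ker (τ h₀ - c • (1 : Module.End K V))
  have hk1 : 1 ≤ finrank K (LinearMap.ker (τ h₀ - c • (1 : Module.End K V))) := by
    rw [Nat.one_le_iff_ne_zero]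
    intro e
    exact hk0 (Submodule.finrank_eq_zero.1 e)
  have hr1 : 1 ≤ finrank K (LinearMap.range (τ h₀ - c • (1 : Module.End K V))) := by
    rw [Nat.one_le_iff_ne_zero]
    intro e
    exact hr0 (Submodule.finrank_eq_zero.1 e)
  rw [hV] at hsum
  obtain ⟨U, hU, hUi⟩ : ∃ U : Submodule K V, finrank K U = 1 ∧ ∀ g, U ≤ U.comap (ρ g) := by
    by_cases hk : finrank K (LinearMap.ker (τ h₀ - c • (1 : Module.End K V))) = 1
    · exact ⟨_, hk, inv_ker (fun g => hc g h₀) c⟩
    · exact ⟨_, by omega, inv_range (fun g => hc g h₀) c⟩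
  -- the fixed points
  have hFi : ∀ g, fixSub ρ ≤ (fixSub ρ).comap (ρ g) := by
    intro g v hv
    rw [Submodule.mem_comap, mem_fixSub.1 hv g]
    exact hv
  have hFj : ∀ h, fixSub ρ ≤ (fixSub ρ).comap (τ h) := by
    intro h v hv
    rw [Submodule.mem_comap, mem_fixSub]
    intro g
    rw [← Module.End.mul_apply, hc g h, Module.End.mul_apply, mem_fixSub.1 hv g]
  have hUF : U ≤ fixSub ρ := fun u hu g => line_triv hG ρ U hUi hU.le g u hu
  have hF1 : 1 ≤ finrank K (fixSub ρ) := by
    rw [← hU]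
    exact Submodule.finrank_mono hUF
  have hFq := Submodule.finrank_quotient_add_finrank (fixSub ρ)
  rw [hV] at hFq
  have hF : finrank K (fixSub ρ) = 1 := by
    by_contra hne
    apply hg₀
    exact two_step hG ρ (fixSub ρ) (fun g u hu => mem_fixSub.1 hu g)
      (fun g v => quot_triv hG ρ (fixSub ρ) hFi (by omega) g v) g₀
  have hV' : finrank K (V ⧸ fixSub ρ) = 2 := by omega
  set ρ' := quot ρ (fixSub ρ) hFi with hρ'
  set τ' := quot τ (fixSub ρ) hFj with hτ'
  have hnt' : ¬ ∀ g, ρ' g = 1 := by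
    intro e
    apply hg₀
    refine two_step hG ρ (fixSub ρ) (fun g u hu => mem_fixSub.1 hu g) (fun g v => ?_) g₀
    have h2 := congrArg (fun f : Module.End K (V ⧸ fixSub ρ) => f (Submodule.Quotient.mk v)) (e g)
    simp only [hρ', quot_mk, Module.End.one_apply] at h2
    exact (Submodule.Quotient.eq _).1 h2
  have hc' : ∀ g h, ρ' g * τ' h = τ' h * ρ' g := by
    intro g h
    apply LinearMap.ext
    intro x
    obtain ⟨v, rfl⟩ := Submodule.Quotient.mk_surjective _ x
    rw [Module.End.mul_apply, Module.End.mul_apply, hρ', hτ', quot_mk, quot_mk, quot_mk, quot_mk,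
      ← Module.End.mul_apply, hc g h, Module.End.mul_apply]
  have hnt2 : Nontrivial (V ⧸ fixSub ρ) := nontrivial_of_finrank_pos (R := K) (by rw [hV']; norm_num)
  have hscal : ∀ h, ∃ c : K, τ' h = c • (1 : Module.End K (V ⧸ fixSub ρ)) := by
    intro h
    obtain ⟨c, hcv⟩ := Module.End.exists_eigenvalue (τ' h)
    refine ⟨c, ?_⟩
    have hk0 : LinearMap.ker (τ' h - c • (1 : Module.End K (V ⧸ fixSub ρ))) ≠ ⊥ := by
      obtain ⟨v, hv⟩ := hcv.exists_hasEigenvector
      intro e
      apply hv.2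
      have : v ∈ LinearMap.ker (τ' h - c • (1 : Module.End K (V ⧸ fixSub ρ))) := by
        rw [LinearMap.mem_ker, LinearMap.sub_apply, LinearMap.smul_apply, Module.End.one_apply, hv.apply_eq_smul,
          sub_self]
      rwa [e, Submodule.mem_bot] at this
    have h1 : finrank K (LinearMap.ker (τ' h - c • (1 : Module.End K (V ⧸ fixSub ρ)))) ≠ 1 := by
      intro e
      exact hnt' (triv_of_plane hG ρ' hV' _ (inv_ker (fun g => hc' g h) c) e)
    have h2 : finrank K (LinearMap.ker (τ' h - c • (1 : Module.End K (V ⧸ fixSub ρ)))) ≠ 0 := by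
      intro e
      exact hk0 (Submodule.finrank_eq_zero.1 e)
    have h3 := Submodule.finrank_le (LinearMap.ker (τ' h - c • (1 : Module.End K (V ⧸ fixSub ρ))))
    have h4 : LinearMap.ker (τ' h - c • (1 : Module.End K (V ⧸ fixSub ρ))) = ⊤ := by
      apply Submodule.eq_top_of_finrank_eq
      omega
    rw [LinearMap.ker_eq_top, sub_eq_zero] at h4
    exact h4
  have hτ1 : ∀ h, τ' h = 1 := by
    apply eq_one_of_comm_image hH τ'
    intro a b
    obtain ⟨c, hc⟩ := hscal a
    rw [hc, smul_mul_assoc, mul_smul_comm, one_mul, mul_one]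
  apply hh₁
  refine two_step hH τ (fixSub ρ) (fun h u hu => line_triv hH τ (fixSub ρ) hFj hF.le h u hu) (fun h v => ?_) h₁
  have h2 := congrArg (fun f : Module.End K (V ⧸ fixSub ρ) => f (Submodule.Quotient.mk v)) (hτ1 h)
  simp only [hτ', quot_mk, Module.End.one_apply] at h2
  exact (Submodule.Quotient.eq _).1 h2

end

end Cfsg.Agent.H196.EP
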