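import Cfsg.Agent.S5791
import Cfsg.Agent.H910.Transv
import Cfsg.Agent.H419.EP.Soc
import Cfsg.Agent.H196.EP.SzKill
import Cfsg.Agent.H196.EP.PLin

/-!
# S3499, the row `Sp_4(q)`, `q ≥ 4` even, residual class: the socle `Sz(q)` (helper196)

By S5791 the socle of `A` is `Sz(q) ≅ P ≤ Sp_4(q)`. The Sylow `2`-subgroup `T` of `P` fixes a vector `v ≠ 0`, an
eigenvector of the torus `D`; the transvections `x = tGL v c` centralise `T`, and none of them is in `A` (otherwise `P`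
contains all `tGL v c` and all `tGL (w v) c`, hence elements of order `3`). By extreme primitivity (`Em.key`) `D ≤ A^x`,
so `D` fixes `v`. Then the sum of the orbit of `v` is fixed by `P`, so it is `0`, and `∑_{t ∈ T} t (w v) = v ≠ 0`, so
`q ^ 2 = |T| ≤ 4`, a contradiction.
-/

set_option autoImplicit false
set_option linter.unusedSectionVars false

namespace Cfsg.Agent.H196.EP

open Subgroup Module Cfsg.Agent.H284 Cfsg.Agent.H419.EP Cfsg.Agent.ThreePrime Cfsg.Agent.ClassicalGeometry.SympBasic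
  Cfsg.Agent.H876 Cfsg.Agent.S5652 Cfsg.Agent.H910 Cfsg.Geo Cfsg
open scoped Matrix MatrixGroups

section lin

variable {F : Type*} [Field F] [Fintype F] [CharP F 2] {P : Subgroup (GL (Fin 2 ⊕ Fin 2) F)}

/-- the action of `P` on `F ^ 4` -/
noncomputable def rep (P : Subgroup (GL (Fin 2 ⊕ Fin 2) F)) : P →* Module.End F (Fin 2 ⊕ Fin 2 → F) where
  toFun g := Matrix.mulVecLin ((g : GL (Fin 2 ⊕ Fin 2) F) : Matrix (Fin 2 ⊕ Fin 2) (Fin 2 ⊕ Fin 2) F)
  map_one' := by
    apply LinearMap.ext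
    intro v
    exact Matrix.one_mulVec v
  map_mul' g h := by
    apply LinearMap.ext
    intro v
    exact (mul_mulVec (g : GL (Fin 2 ⊕ Fin 2) F) h v)

theorem rep_apply (g : P) (v : Fin 2 ⊕ Fin 2 → F) :
    rep P g v = ((g : GL (Fin 2 ⊕ Fin 2) F) : Matrix (Fin 2 ⊕ Fin 2) (Fin 2 ⊕ Fin 2) F) *ᵥ v := rfl

theorem add_self' (x : F) : x + x = 0 := CharTwo.add_self_eq_zero x

theorem tGL_inj {v : Fin 2 ⊕ Fin 2 → F} (hv : v ≠ 0) {c d : F} (h : tGL v c = tGL v d) : c = d := by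
  obtain ⟨u, hu⟩ := exists_partner hv
  have h1 : (tGL v c : Matrix (Fin 2 ⊕ Fin 2) (Fin 2 ⊕ Fin 2) F) *ᵥ u =
      (tGL v d : Matrix (Fin 2 ⊕ Fin 2) (Fin 2 ⊕ Fin 2) F) *ᵥ u := by rw [h]
  rw [tGL_mulVec, tGL_mulVec, add_right_inj, sympForm_swap, hu] at h1
  have h2 : (c * -1 - d * -1) • v = 0 := by rw [sub_smul, h1, sub_self]
  rcases smul_eq_zero.1 h2 with h3 | h3
  · linear_combination -h3
  · exact absurd h3 hv

variable (hPs : P ≤ spGL 2 F) (R : SzRel.Rel P F)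

include hPs in
theorem conj_t (g : P) (v : Fin 2 ⊕ Fin 2 → F) (c : F) :
    (g : GL (Fin 2 ⊕ Fin 2) F) * tGL v c * (g : GL (Fin 2 ⊕ Fin 2) F)⁻¹ = tGL (rep P g v) c := conj_tGL (hPs g.2) v c

/-- **A vector fixed by `T`, an eigenvector of `D`** -/
theorem exists_vec : ∃ v : Fin 2 ⊕ Fin 2 → F, v ≠ 0 ∧ (∀ t ∈ R.T, rep P t v = v) ∧ ∀ k, ∃ c : F, rep P (R.d k) v = c • v := by
  classical
  obtain ⟨y, hy0, hy⟩ := exists_fixed (F := F) Nat.prime_two R.isPGroup ((rep P).comp R.T.subtype)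
    (y := Pi.single (Sum.inl 0) (1 : F)) (by
      intro h
      have := congrFun h (Sum.inl 0)
      rw [Pi.single_eq_same] at this
      exact one_ne_zero this)
  let W : Submodule F (Fin 2 ⊕ Fin 2 → F) :=
    { carrier := {v | ∀ t ∈ R.T, rep P t v = v}
      zero_mem' := fun t _ => map_zero _
      add_mem' := by
        intro a b ha hb t ht
        rw [map_add, ha t ht, hb t ht]
      smul_mem' := by
        intro c a ha t ht
        rw [map_smul, ha t ht] }
  have hW : ∀ k, ∀ v ∈ W, rep P (R.d k) v ∈ W := by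
    intro k v hv t ht
    have h1 : (R.d k)⁻¹ * t * R.d k ∈ R.T := by
      have h2 := (Subgroup.mem_normalizer_iff.1 (inv_mem (R.D_le (R.d_mem k))) t).1 ht
      rwa [inv_inv] at h2
    rw [← Module.End.mul_apply, ← map_mul]
    have h2 : t * R.d k = R.d k * ((R.d k)⁻¹ * t * R.d k) := by group
    rw [h2, map_mul, Module.End.mul_apply, hv _ h1]
  obtain ⟨k0, hk0⟩ := IsCyclic.exists_generator (α := Fˣ)
  let dh : Fˣ →* P := { toFun := R.d, map_one' := R.d_one, map_mul' := fun k l => (R.d_mul k l).symm }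
  obtain ⟨v, hvW, hv0, c, hc⟩ := exists_eigen (rep P (R.d k0)) (by
    rw [← map_pow]
    have h1 : R.d k0 ^ (Fintype.card F - 1) = 1 := by
      have h2 : dh k0 ^ (Fintype.card F - 1) = 1 := by
        rw [← map_pow, ← Nat.card_eq_fintype_card, ← Nat.card_units, pow_card_eq_one', map_one]
      exact h2
    rw [h1, map_one]) W (hW k0) (y := y) (fun t ht => hy ⟨t, ht⟩) hy0
  refine ⟨v, hv0, hvW, fun k => ?_⟩
  have hpow : ∀ n : ℕ, rep P (R.d (k0 ^ n)) v = c ^ n • v := by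
    intro n
    induction n with
    | zero =>
      rw [pow_zero, pow_zero, R.d_one, map_one, one_smul, Module.End.one_apply]
    | succ n ih =>
      rw [pow_succ, ← R.d_mul, map_mul, Module.End.mul_apply, hc, map_smul, ih, smul_smul, pow_succ, mul_comm]
  have h2 : k ∈ Submonoid.powers k0 := by
    rw [mem_powers_iff_mem_zpowers]
    exact hk0 k
  obtain ⟨n, rfl⟩ := h2
  exact ⟨_, hpow n⟩

include hPs in
/-- **No transvection with centre `v` is in `P`** -/
theorem no_trans (h3 : ¬ 3 ∣ Nat.card P) {v : Fin 2 ⊕ Fin 2 → F} (hv : v ≠ 0) (hvT : ∀ t ∈ R.T, rep P t v = v)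
    (hvD : ∀ k, ∃ c : F, rep P (R.d k) v = c • v) {c : F} (hc : tGL v c ∈ P) : c = 0 := by
  classical
  by_contra hc0
  set j : P := ⟨tGL v c, hc⟩ with hj
  have hjj : j * j = 1 := by
    apply Subtype.ext
    show tGL v c * tGL v c = 1
    rw [tGL_mul, add_self', tGL_zero_right]
  have hj1 : j ≠ 1 := by
    intro e
    apply hc0
    apply tGL_inj hv
    rw [tGL_zero_right]
    exact congrArg Subtype.val e
  have hcomm : ∀ t ∈ R.T, j * t = t * j := by
    intro t ht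
    have h1 := conj_t hPs t v c
    rw [hvT t ht, mul_inv_eq_iff_eq_mul] at h1
    exact Subtype.ext h1.symm
  have hjT : j ∈ R.T := R.mem_T_of_comm (R.u_mem 0 1) (R.u_ne_one one_ne_zero) (hcomm _ (R.u_mem 0 1))
  -- all involutions of `T` are transvections
  have hZ : ∀ z : R.Z, ∃ c' : F, ((z : P) : GL (Fin 2 ⊕ Fin 2) F) = tGL v c' := by
    rintro ⟨z, hz⟩
    have hzT := R.Z_le_T hz
    by_cases hz1 : z = 1
    · exact ⟨0, by rw [tGL_zero_right]; exact congrArg Subtype.val hz1⟩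
    obtain ⟨_, ⟨k, rfl⟩, hd⟩ := R.trans j hjT z hzT hj1 hz1 hjj ((R.mem_Z_iff hzT).1 hz)
    obtain ⟨l, hl⟩ := hvD k
    refine ⟨l ^ 2 * c, ?_⟩
    rw [← tGL_smul, ← hl, ← conj_t hPs]
    exact congrArg Subtype.val hd.symm
  choose φ hφ using hZ
  have hφi : Function.Injective φ := by
    intro z z' h
    apply Subtype.ext
    apply Subtype.ext
    rw [hφ, hφ, h]
  have hφs : Function.Surjective φ := by
    have hcard : Nat.card R.Z = Nat.card F := R.card_Z
    exact ((Nat.bijective_iff_injective_and_card φ).2 ⟨hφi, hcard⟩).2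
  have hall : ∀ c', ∃ z ∈ R.Z, ((z : P) : GL (Fin 2 ⊕ Fin 2) F) = tGL v c' := by
    intro c'
    obtain ⟨z, rfl⟩ := hφs c'
    exact ⟨z, z.2, hφ z⟩
  -- the conjugates by `w`
  set v' := rep P R.w v with hv'
  have hw : ∀ (z : P) (c' : F), (z : GL (Fin 2 ⊕ Fin 2) F) = tGL v c' →
      ((R.w * z * R.w⁻¹ : P) : GL (Fin 2 ⊕ Fin 2) F) = tGL v' c' := by
    intro z c' hz
    rw [hv', ← conj_t hPs, ← hz]
    rfl
  have hnc : ∀ z ∈ R.Z, ∀ z' ∈ R.Z, z ≠ 1 → z' ≠ 1 → (R.w * z' * R.w⁻¹) * z ≠ z * (R.w * z' * R.w⁻¹) := by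
    intro z hz z' hz' h1 h1' he
    have h2 := R.mem_T_of_comm (R.Z_le_T hz) h1 he
    exact R.w_not_mem_normalizer (R.ti (R.Z_le_T hz') h1' h2)
  have hne1 : ∀ {z : P} {c' : F}, (z : GL (Fin 2 ⊕ Fin 2) F) = tGL v c' → c' ≠ 0 → z ≠ 1 := by
    intro z c' hz hc' e
    apply hc'
    apply tGL_inj hv
    rw [tGL_zero_right, ← hz, e]
    rfl
  obtain ⟨x, hxZ, hx⟩ := hall 1
  have hx1 : x ≠ 1 := hne1 hx one_ne_zero
  by_cases hs : sympForm 2 F v v' = 0
  · apply hnc x hxZ x hxZ hx1 hx1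
    apply Subtype.ext
    show ((R.w * x * R.w⁻¹ : P) : GL (Fin 2 ⊕ Fin 2) F) * (x : GL (Fin 2 ⊕ Fin 2) F) =
      (x : GL (Fin 2 ⊕ Fin 2) F) * ((R.w * x * R.w⁻¹ : P) : GL (Fin 2 ⊕ Fin 2) F)
    rw [hw x 1 hx, hx]
    have h1 := conj_tGL (tGL_mem v (1 : F)) v' (1 : F)
    rw [tGL_mulVec, sympForm_swap, hs, neg_zero, mul_zero, zero_smul, add_zero, mul_inv_eq_iff_eq_mul] at h1
    exact h1.symm
  · set s := sympForm 2 F v v' with hsdef
    obtain ⟨y0, hy0Z, hy0⟩ := hall (s⁻¹ ^ 2)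
    have hy01 : y0 ≠ 1 := hne1 hy0 (pow_ne_zero _ (inv_ne_zero hs))
    set y : P := R.w * y0 * R.w⁻¹ with hydef
    have hy : (y : GL (Fin 2 ⊕ Fin 2) F) = tGL v' (s⁻¹ ^ 2) := hw y0 _ hy0
    have hxx : x * x = 1 := (R.mem_Z_iff (R.Z_le_T hxZ)).1 hxZ
    have hyy : y * y = 1 := by
      have h1 : y0 * y0 = 1 := (R.mem_Z_iff (R.Z_le_T hy0Z)).1 hy0Z
      have h2 : y * y = R.w * (y0 * y0) * R.w⁻¹ := by rw [hydef]; group
      rw [h2, h1, mul_one, mul_inv_cancel]
    -- the braid relation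
    have hbr : x * y * x⁻¹ = y * x * y⁻¹ := by
      apply Subtype.ext
      show (x : GL (Fin 2 ⊕ Fin 2) F) * y * (x : GL (Fin 2 ⊕ Fin 2) F)⁻¹ = (y : GL (Fin 2 ⊕ Fin 2) F) * x * (y : GL (Fin 2 ⊕ Fin 2) F)⁻¹
      rw [hx, hy, conj_tGL (tGL_mem _ _), conj_tGL (tGL_mem _ _), tGL_mulVec, tGL_mulVec, ← hsdef, sympForm_swap, ← hsdef]
      have h1 : v + (s⁻¹ ^ 2 * s) • v' = s⁻¹ • (v' + (1 * -s) • v) := by
        rw [smul_add, smul_smul]
        have h2 : s⁻¹ ^ 2 * s = s⁻¹ := by field_simp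
        have h3 : s⁻¹ * (1 * -s) = 1 := by
          have h4 : s⁻¹ * (1 * -s) = -1 := by field_simp
          rw [h4]
          exact CharTwo.neg_eq 1
        rw [h2, h3, one_smul, add_comm]
      rw [h1, tGL_smul, mul_one]
    have h33 : (x * y) ^ 3 = 1 := by
      have hxi : x⁻¹ = x := inv_eq_of_mul_eq_one_left hxx
      have hyi : y⁻¹ = y := inv_eq_of_mul_eq_one_left hyy
      rw [hxi, hyi] at hbr
      calc (x * y) ^ 3 = (x * y * x) * (y * x * y) := by
            rw [pow_succ, pow_succ, pow_one]; group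
        _ = (x * y * x) * (x * y * x) := by rw [hbr]
        _ = x * y * (x * x) * y * x := by group
        _ = 1 := by rw [hxx, mul_one, mul_assoc x y y, hyy, mul_one, hxx]
    have hne : x * y ≠ 1 := by
      intro e
      have h1 : y = x := by
        have h2 : y = x⁻¹ := eq_inv_of_mul_eq_one_right e
        rw [h2]
        exact inv_eq_of_mul_eq_one_left hxx
      apply hnc x hxZ y0 hy0Z hx1 hy01
      rw [← hydef, h1]
    apply h3
    have := Fact.mk Nat.prime_three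
    rw [← orderOf_eq_prime h33 hne]
    exact orderOf_dvd_natCard _

include hPs in
/-- **No nonzero vector is fixed by the Borel subgroup `T D`** -/
theorem no_fixed (hirr : ∀ W : Submodule F (Fin 2 ⊕ Fin 2 → F), (∀ g : P, ∀ w ∈ W, rep P g w ∈ W) → W = ⊥ ∨ W = ⊤)
    (h8 : 8 ≤ Fintype.card F) {v : Fin 2 ⊕ Fin 2 → F} (hv : v ≠ 0) (hvT : ∀ t ∈ R.T, rep P t v = v)
    (hvD : ∀ k, rep P (R.d k) v = v) : False := by
  classical
  let B : Subgroup P := Subgroup.normalizer (R.T : Set P)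
  have hB : ∀ b ∈ B, rep P b v = v := by
    intro b hb
    obtain ⟨a, b, k, rfl⟩ := R.norm hb
    rw [map_mul, Module.End.mul_apply, hvD, hvT _ (R.u_mem _ _)]
  let φ : P ⧸ B → (Fin 2 ⊕ Fin 2 → F) := fun c => rep P c.out v
  have hφ : ∀ g : P, φ (g : P ⧸ B) = rep P g v := by
    intro g
    have h1 : ((g : P ⧸ B).out : P ⧸ B) = (g : P ⧸ B) := QuotientGroup.out_eq' _
    have h2 : g⁻¹ * (g : P ⧸ B).out ∈ B := QuotientGroup.eq.1 h1.symm
    have h3 : (g : P ⧸ B).out = g * (g⁻¹ * (g : P ⧸ B).out) := by group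
    show rep P (g : P ⧸ B).out v = rep P g v
    rw [h3, map_mul, Module.End.mul_apply, hB _ h2]
  have hfinP : Finite P := inferInstance
  let _ : Fintype P := Fintype.ofFinite P
  let _ : Fintype (P ⧸ B) := Fintype.ofFinite _
  let _ : Fintype R.T := Fintype.ofFinite _
  -- the sum over the cosets
  have hsum : ∀ g : P, rep P g (∑ c, φ c) = ∑ c, φ c := by
    intro g
    rw [map_sum]
    refine Fintype.sum_equiv (MulAction.toPerm g) _ _ ?_
    intro c
    induction c using QuotientGroup.induction_on with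
    | H x =>
      show rep P g (φ (x : P ⧸ B)) = φ (g • (x : P ⧸ B))
      rw [MulAction.Quotient.smul_coe, smul_eq_mul, hφ, hφ, map_mul, Module.End.mul_apply]
  have hzero : ∑ c, φ c = 0 := by
    let W : Submodule F (Fin 2 ⊕ Fin 2 → F) :=
      { carrier := {w | ∀ g : P, rep P g w = w}
        zero_mem' := fun g => map_zero _
        add_mem' := by
          intro a b ha hb g
          rw [map_add, ha g, hb g]
        smul_mem' := by
          intro c a ha g
          rw [map_smul, ha g] }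
    rcases hirr W (fun g w hw g' => by rw [hw g, hw g']) with h1 | h1
    · have h2 : ∑ c, φ c ∈ W := hsum
      rw [h1, Submodule.mem_bot] at h2
      exact h2
    · exfalso
      apply R.w_ne_one
      apply Subtype.ext
      apply gl_ext
      intro u
      have h2 : u ∈ W := by rw [h1]; exact Submodule.mem_top
      have h3 := h2 R.w
      rw [rep_apply] at h3
      rw [h3]
      exact (Matrix.one_mulVec u).symm
  -- the decomposition of the cosets
  let ψ : Option R.T → P ⧸ B := fun o => match o with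
    | none => ((1 : P) : P ⧸ B)
    | some t => (((t : P) * R.w : P) : P ⧸ B)
  have hψi : Function.Injective ψ := by
    intro o o' h
    rcases o with _ | t <;> rcases o' with _ | t'
    · rfl
    · exfalso
      have h1 : ((1 : P) : P ⧸ B) = (((t' : P) * R.w : P) : P ⧸ B) := h
      rw [QuotientGroup.eq, inv_one, one_mul] at h1
      apply R.w_not_mem_normalizer
      obtain ⟨a, b, ht⟩ := t'.2
      have h2 : (t' : P) ∈ B := by
        have := R.ud_mem_normalizer a b 1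
        rw [R.d_one, mul_one, ← ht] at this
        exact this
      exact (Subgroup.mul_mem_cancel_left B h2).1 h1
    · exfalso
      have h1 : (((t : P) * R.w : P) : P ⧸ B) = ((1 : P) : P ⧸ B) := h
      rw [eq_comm, QuotientGroup.eq, inv_one, one_mul] at h1
      apply R.w_not_mem_normalizer
      obtain ⟨a, b, ht⟩ := t.2
      have h2 : (t : P) ∈ B := by
        have := R.ud_mem_normalizer a b 1
        rw [R.d_one, mul_one, ← ht] at this
        exact this
      exact (Subgroup.mul_mem_cancel_left B h2).1 h1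
    · have h1 : (((t : P) * R.w : P) : P ⧸ B) = (((t' : P) * R.w : P) : P ⧸ B) := h
      rw [QuotientGroup.eq] at h1
      have h2 : R.w * ((t : P)⁻¹ * t') * R.w ∈ B := by
        have h3 : R.w⁻¹ = R.w := inv_eq_of_mul_eq_one_left R.w_mul_w
        have h4 : ((t : P) * R.w)⁻¹ * ((t' : P) * R.w) = R.w * ((t : P)⁻¹ * t') * R.w := by
          rw [mul_inv_rev, h3]; group
        rwa [h4] at h1
      obtain ⟨a, b, hab⟩ := R.T.mul_mem (R.T.inv_mem t.2) t'.2
      obtain ⟨c, e, k, hk⟩ := R.norm h2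
      rw [hab] at hk
      obtain ⟨rfl, rfl⟩ := R.inter a b c e k hk
      rw [R.u_zero, inv_mul_eq_one] at hab
      rw [Subtype.ext hab]
  have hψs : Function.Surjective ψ := by
    intro c
    induction c using QuotientGroup.induction_on with
    | H x =>
      rcases R.bruhat x with ⟨a, b, k, h⟩ | ⟨a, b, c, e, k, h⟩
      · refine ⟨none, ?_⟩
        show ((1 : P) : P ⧸ B) = (x : P ⧸ B)
        rw [QuotientGroup.eq, inv_one, one_mul, h]
        exact R.ud_mem_normalizer a b k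
      · refine ⟨some ⟨R.u a b, R.u_mem a b⟩, ?_⟩
        show ((R.u a b * R.w : P) : P ⧸ B) = (x : P ⧸ B)
        rw [QuotientGroup.eq, h, inv_mul_cancel_left]
        exact R.ud_mem_normalizer c e k
  have hdec : ∑ c, φ c = v + ∑ t : R.T, rep P t (rep P R.w v) := by
    rw [← Function.Bijective.sum_comp ⟨hψi, hψs⟩ φ, Fintype.sum_option]
    congr 1
    · show φ ((1 : P) : P ⧸ B) = v
      rw [hφ, map_one, Module.End.one_apply]
    · refine Finset.sum_congr rfl fun t _ => ?_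
      show φ (((t : P) * R.w : P) : P ⧸ B) = _
      rw [hφ, map_mul, Module.End.mul_apply]
  have hT : ∑ t : R.T, ((rep P).comp R.T.subtype) t (rep P R.w v) ≠ 0 := by
    intro h1
    apply hv
    have h2 : ∑ t : R.T, rep P t (rep P R.w v) = 0 := h1
    rw [h2, add_zero, hzero] at hdec
    exact hdec.symm
  have hle := card_le_finrank Nat.prime_two R.isPGroup ((rep P).comp R.T.subtype) _ hT
  rw [Module.finrank_fintype_fun_eq_card, ← Nat.card_eq_fintype_card, R.card_T, Nat.card_eq_fintype_card] at hle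
  have h4 : Fintype.card (Fin 2 ⊕ Fin 2) = 4 := by decide
  rw [h4] at hle
  nlinarith

end lin

/-- `3` does not divide the order of a Suzuki group -/
theorem not_three_dvd_sz {F : Type*} [Field F] [Fintype F] {k : ℕ} (hm : 1 ≤ k) (hF : Fintype.card F = 2 ^ (2 * k + 1)) :
    ¬ 3 ∣ Nat.card ↥(Cfsg.Lie.Sz F (2 ^ (k + 1))) := by
  rw [(Cfsg.Agent.S1163.result hm hF).1]
  have h1 : 2 ^ (2 * k + 1) = 2 * 4 ^ k := by rw [pow_succ, pow_mul]; norm_num [mul_comm]
  have h3 : 4 ^ k % 3 = 1 := by rw [Nat.pow_mod]; norm_num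
  rw [h1]
  obtain ⟨a, ha⟩ : ∃ a, 4 ^ k = 3 * a + 1 := ⟨4 ^ k / 3, by omega⟩
  rw [ha, show 2 * (3 * a + 1) - 1 = 6 * a + 1 by omega]
  intro h
  have h4 : ((2 * (3 * a + 1)) ^ 2 * (6 * a + 1) * ((2 * (3 * a + 1)) ^ 2 + 1)) % 3 = 2 := by
    have e1 : (2 * (3 * a + 1)) ^ 2 = 3 * (12 * a ^ 2 + 8 * a + 1) + 1 := by ring
    rw [e1]
    generalize 12 * a ^ 2 + 8 * a + 1 = b
    have e2 : (3 * b + 1) * (6 * a + 1) * (3 * b + 1 + 1) =
      3 * (18 * a * b ^ 2 + 18 * a * b + 3 * b ^ 2 + 4 * a + 3 * b) + 2 := by ring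
    rw [e2]
    omega
  omega

/-- **The row S5791** -/
theorem row_S5791 {Q : Type*} [Group Q] [Finite Q] (hs : IsSimpleGroup Q) {A : Subgroup Q} {Γ : Subgroup (MulAut Q)}
    (h : EPT A Γ) {F : Type*} [Field F] [Fintype F] (M : Model Q (Cfsg.spGL 2 F)) (heven : ¬ Odd (Fintype.card F))
    (h4 : 4 ≤ Fintype.card F) (hres : Cfsg.Geo.InSymplecticResidualClass (M.hat A)) : False := by
  classical
  have hch : CharP F 2 := by
    obtain ⟨p, hp⟩ := CharP.exists F
    have hpp : p.Prime := CharP.char_is_prime F p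
    obtain ⟨n, -, hn⟩ := FiniteField.card F p
    have h2 : 2 ∣ p ^ (n : ℕ) := by
      rw [← hn]
      exact (Nat.not_odd_iff_even.1 heven).two_dvd
    have h3 := (Nat.prime_dvd_prime_iff_eq Nat.prime_two hpp).1 (Nat.prime_two.dvd_of_dvd_pow h2)
    rw [h3]; exact hp
  obtain ⟨P, k, hc, hk, hF, ⟨e⟩⟩ := Cfsg.Agent.S5791.result heven h4 (M.hat A) (M.isMaximalIn h.max) hres
  have hPs : P ≤ spGL 2 F := hc.le.trans (M.hat_le A)
  obtain ⟨⟨e0⟩, hsim, -⟩ := core_simple hc hPs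
  have hfin : Finite P := Subtype.finite
  let eP : ↥(Cfsg.Lie.Sz F (2 ^ (k + 1))) ≃* P := e.symm.trans e0
  let R : SzRel.Rel P F := (SzRel.ofGood (Cfsg.Agent.LieRecognition.SzMatrix.good hF)).map eP
  have h3 : ¬ 3 ∣ Nat.card P := by
    rw [← Nat.card_congr eP.toEquiv]
    exact not_three_dvd_sz hk hF
  have h8 : 8 ≤ Fintype.card F := by
    rw [hF]
    exact SzRel.Rel.eight_le hk
  -- the embedding of the socle
  let f : P →* Q := M.π.comp (Subgroup.inclusion hPs)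
  have hf : ∀ p : P, f p = M.π ⟨p, hPs p.2⟩ := fun p => rfl
  have hπ : ∀ s t : spGL 2 F, M.π s = M.π t → (s : GL (Fin 2 ⊕ Fin 2) F) = t := by
    intro s t hst
    have h1 : M.π (s * t⁻¹) = 1 := by rw [map_mul, map_inv, hst, mul_inv_cancel]
    have h2 := (M.ker _).1 h1
    have h5 : s * t⁻¹ ∈ (scalars (Fin 2 ⊕ Fin 2) F).subgroupOf (spGL 2 F) := h2
    rw [scalars_inf_bot (le_refl (spGL 2 F)), mem_bot] at h5
    have h6 : ((s * t⁻¹ : spGL 2 F) : GL (Fin 2 ⊕ Fin 2) F) = 1 := congrArg Subtype.val h5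
    rw [Subgroup.coe_mul, Subgroup.coe_inv, mul_inv_eq_one] at h6
    exact h6
  have E : Em A f := by
    refine ⟨?_, ?_, ?_, ?_⟩
    · intro p p' hpp
      exact Subtype.ext (hπ _ _ hpp)
    · intro p
      exact (M.mem_hat_iff ⟨p, hPs p.2⟩).1 (hc.le p.2)
    · intro a ha p
      obtain ⟨s, rfl⟩ := M.surj a
      have hsA : (s : GL (Fin 2 ⊕ Fin 2) F) ∈ M.hat A := (M.mem_hat_iff s).2 ha
      refine ⟨⟨s * p * (s : GL (Fin 2 ⊕ Fin 2) F)⁻¹, hc.normal _ hsA _ p.2⟩, ?_⟩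
      rw [hf, hf, ← map_mul, ← map_inv, ← map_mul]
      rfl
    · intro a ha hcen
      obtain ⟨s, rfl⟩ := M.surj a
      have hsA : (s : GL (Fin 2 ⊕ Fin 2) F) ∈ M.hat A := (M.mem_hat_iff s).2 ha
      rw [M.ker]
      apply hc.centralizer_scalar _ hsA
      intro x hx
      have h1 := hcen ⟨x, hx⟩
      have h2 : M.π (s * ⟨x, hPs hx⟩ * s⁻¹ * ⟨x, hPs hx⟩⁻¹) = 1 := by
        rw [map_mul, map_mul, map_mul, map_inv, map_inv]
        rw [hf] at h1
        rw [h1]
        group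
      exact (M.ker _).1 h2
  -- the vector
  obtain ⟨v, hv, hvT, hvD⟩ := exists_vec R
  have hno : ∀ c : F, M.π ⟨tGL v c, tGL_mem v c⟩ ∈ A → c = 0 := by
    intro c hcA
    obtain ⟨j, hj⟩ := E.exists_of_two R hk hF hcA (k := 1) (by
      rw [pow_one, pow_two, ← map_mul]
      have h1 : (⟨tGL v c, tGL_mem v c⟩ * ⟨tGL v c, tGL_mem v c⟩ : spGL 2 F) = 1 := by
        apply Subtype.ext
        show tGL v c * tGL v c = 1
        rw [tGL_mul, add_self', tGL_zero_right]
      rw [h1, map_one])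
    have h2 : (j : GL (Fin 2 ⊕ Fin 2) F) = tGL v c := hπ _ _ hj
    exact no_trans hPs R h3 hv hvT hvD (h2 ▸ j.2)
  have hx : M.π ⟨tGL v 1, tGL_mem v 1⟩ ∉ A := fun e => one_ne_zero (hno 1 e)
  have hfix : ∀ l, rep P (R.d l) v = v := by
    intro l
    obtain ⟨c, hcv⟩ := hvD l
    have h1 := E.key R hk hF h hx (fun t ht => by
      rw [hf, ← map_mul, ← map_mul]
      congr 1
      apply Subtype.ext
      show tGL v 1 * (t : GL (Fin 2 ⊕ Fin 2) F) = t * tGL v 1
      have h2 := conj_t hPs t v (1 : F)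
      rw [hvT t ht, mul_inv_eq_iff_eq_mul] at h2
      exact h2.symm) l
    have h2 : M.π ⟨tGL v (c ^ 2 - 1), tGL_mem v _⟩ ∈ A := by
      have h5 := A.mul_mem h1 (A.inv_mem (E.le (R.d l)))
      rw [hf, ← map_inv, ← map_inv, ← map_mul, ← map_mul, ← map_mul] at h5
      have h6 : ((⟨tGL v 1, tGL_mem v 1⟩ : spGL 2 F)⁻¹ * ⟨R.d l, hPs (R.d l).2⟩ * ⟨tGL v 1, tGL_mem v 1⟩ *
          (⟨R.d l, hPs (R.d l).2⟩ : spGL 2 F)⁻¹ : spGL 2 F) = ⟨tGL v (c ^ 2 - 1), tGL_mem v _⟩ := by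
        apply Subtype.ext
        show (tGL v 1)⁻¹ * (R.d l : GL (Fin 2 ⊕ Fin 2) F) * tGL v 1 * (R.d l : GL (Fin 2 ⊕ Fin 2) F)⁻¹ = tGL v (c ^ 2 - 1)
        have h7 := conj_t hPs (R.d l) v (1 : F)
        rw [hcv, tGL_smul, mul_one] at h7
        have h8 : (tGL v 1)⁻¹ * (R.d l : GL (Fin 2 ⊕ Fin 2) F) * tGL v 1 * (R.d l : GL (Fin 2 ⊕ Fin 2) F)⁻¹ =
            (tGL v 1)⁻¹ * ((R.d l : GL (Fin 2 ⊕ Fin 2) F) * tGL v 1 * (R.d l : GL (Fin 2 ⊕ Fin 2) F)⁻¹) := by group
        rw [h8, h7, tGL_inv, tGL_mul]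
        congr 1
        ring
      rw [h6] at h5
      exact h5
    have h5 := hno _ h2
    have h6 : c = 1 := by
      have h7 : (c - 1) ^ 2 = 0 := by
        have h8 : (2 : F) = 0 := CharTwo.two_eq_zero
        linear_combination h5 + (1 - c) * h8
      exact sub_eq_zero.1 (pow_eq_zero_iff (two_ne_zero) |>.1 h7)
    rw [hcv, h6, one_smul]
  refine no_fixed hPs R ?_ h8 hv hvT hfix
  intro W hW
  refine hc.absIrred.1 W ?_
  rintro _ ⟨x, hx, rfl⟩
  rintro _ ⟨w, hw, rfl⟩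
  exact hW ⟨x, hx⟩ w hw

end Cfsg.Agent.H196.EP
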